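import Mathlib.Algebra.Homology.DerivedCategory.Ext.ExactSequences

/-!
# Two-out-of-three for the class of objects `N` on which `η_N : N → Φ N` induces
bijections `Ext^n(M, N) → Ext^n(M, Φ N)`
-/

set_option autoImplicit false
universe w v u
open CategoryTheory Limits Abelian

namespace Groth.Agent.H9.ExtBC

variable {C : Type u} [Category.{v} C] [Abelian C] [HasExt.{w} C]
  (Φ : C ⥤ C) [Φ.Additive] [PreservesFiniteLimits Φ] [PreservesFiniteColimits Φ]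
  (η : 𝟭 C ⟶ Φ) (M : C)

lemma ext_sub_comp {X Y Z : C} {a b c : ℕ} (x y : Ext.{w} X Y a) (β : Ext.{w} Y Z b)
    (h : a + b = c) : (x - y).comp β h = x.comp β h - y.comp β h :=
  map_sub (β.postcomp X h) x y

/-- postcomposition with `η_N` on `Ext^n(M, -)` -/
noncomputable abbrev uMap (N : C) (n : ℕ) : Ext.{w} M N n →+ Ext.{w} M (Φ.obj N) n :=
  (Ext.mk₀ (η.app N)).postcomp M (add_zero n)

omit [Φ.Additive] [PreservesFiniteLimits Φ] [PreservesFiniteColimits Φ] in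
lemma uMap_apply (N : C) (n : ℕ) (x : Ext.{w} M N n) :
    uMap Φ η M N n x = x.comp (Ext.mk₀ (η.app N)) (add_zero n) := rfl

/-- the objects `N` for which `η_N` induces bijections on all `Ext^n(M, -)` -/
def Good (N : C) : Prop := ∀ n : ℕ, Function.Bijective (uMap.{w} Φ η M N n)

variable {Φ η M}

omit [Φ.Additive] [PreservesFiniteLimits Φ] [PreservesFiniteColimits Φ] in
lemma good_of_isIso (N : C) [IsIso (η.app N)] : Good.{w} Φ η M N := by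
  intro n
  refine ⟨?_, ?_⟩
  · intro x y h
    have h' := congrArg (fun z => z.comp (Ext.mk₀ (inv (η.app N))) (add_zero n)) h
    simpa [Ext.mk₀_comp_mk₀] using h'
  · intro y
    refine ⟨y.comp (Ext.mk₀ (inv (η.app N))) (add_zero n), ?_⟩
    simp [uMap_apply, Ext.mk₀_comp_mk₀]

omit [Φ.Additive] [PreservesFiniteLimits Φ] [PreservesFiniteColimits Φ] in
lemma good_of_subsingleton (N : C) (h₁ : ∀ n, Subsingleton (Ext.{w} M N n))
    (h₂ : ∀ n, Subsingleton (Ext.{w} M (Φ.obj N) n)) : Good.{w} Φ η M N := by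
  intro n
  have := h₁ n
  have := h₂ n
  exact ⟨fun x y _ => Subsingleton.elim x y, fun y => ⟨0, Subsingleton.elim _ _⟩⟩

section

variable {S : ShortComplex C} (hS : S.ShortExact)

/-- the morphism of short complexes `S ⟶ S.map Φ` given by `η` -/
@[simps]
def ηS (S : ShortComplex C) (η : 𝟭 C ⟶ Φ) : S ⟶ S.map Φ where
  τ₁ := η.app S.X₁
  τ₂ := η.app S.X₂
  τ₃ := η.app S.X₃
  comm₁₂ := (η.naturality S.f).symm
  comm₂₃ := (η.naturality S.g).symm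

include hS in
omit [HasExt.{w} C] in
lemma shortExact_map : (S.map Φ).ShortExact := hS.map_of_exact Φ

omit [Φ.Additive] [PreservesFiniteLimits Φ] [PreservesFiniteColimits Φ] in
lemma comm_f (n : ℕ) (x : Ext.{w} M S.X₁ n) :
    uMap Φ η M S.X₂ n (x.comp (Ext.mk₀ S.f) (add_zero n)) =
      (uMap Φ η M S.X₁ n x).comp (Ext.mk₀ (Φ.map S.f)) (add_zero n) := by
  rw [uMap_apply, uMap_apply, Ext.comp_assoc_of_third_deg_zero,
    Ext.comp_assoc_of_third_deg_zero, Ext.mk₀_comp_mk₀, Ext.mk₀_comp_mk₀]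
  have : S.f ≫ η.app S.X₂ = η.app S.X₁ ≫ Φ.map S.f := η.naturality S.f
  rw [this]

omit [Φ.Additive] [PreservesFiniteLimits Φ] [PreservesFiniteColimits Φ] in
lemma comm_g (n : ℕ) (x : Ext.{w} M S.X₂ n) :
    uMap Φ η M S.X₃ n (x.comp (Ext.mk₀ S.g) (add_zero n)) =
      (uMap Φ η M S.X₂ n x).comp (Ext.mk₀ (Φ.map S.g)) (add_zero n) := by
  rw [uMap_apply, uMap_apply, Ext.comp_assoc_of_third_deg_zero,
    Ext.comp_assoc_of_third_deg_zero, Ext.mk₀_comp_mk₀, Ext.mk₀_comp_mk₀]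
  have : S.g ≫ η.app S.X₃ = η.app S.X₂ ≫ Φ.map S.g := η.naturality S.g
  rw [this]

/-- the extension class of `S.map Φ`, with the expected type -/
noncomputable def δ' : Ext.{w} (Φ.obj S.X₃) (Φ.obj S.X₁) 1 :=
  (shortExact_map (Φ := Φ) hS).extClass

lemma nat_δ : hS.extClass.comp (Ext.mk₀ (η.app S.X₁)) (add_zero 1) =
    (Ext.mk₀ (η.app S.X₃)).comp (δ' (Φ := Φ) hS) (zero_add 1) :=
  ShortComplex.ShortExact.extClass_naturality hS (shortExact_map (Φ := Φ) hS) (ηS S η)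

lemma comm_δ (n n' : ℕ) (h : n + 1 = n') (x : Ext.{w} M S.X₃ n) :
    uMap Φ η M S.X₁ n' (x.comp hS.extClass h) =
      (uMap Φ η M S.X₃ n x).comp (δ' (Φ := Φ) hS) h := by
  rw [uMap_apply, uMap_apply, Ext.comp_assoc_of_third_deg_zero,
    Ext.comp_assoc_of_second_deg_zero, nat_δ]

/-! ### exactness, for `S` and for `S.map Φ` -/

lemma comp_f_g (n : ℕ) (x : Ext.{w} M S.X₁ n) :
    (x.comp (Ext.mk₀ S.f) (add_zero n)).comp (Ext.mk₀ S.g) (add_zero n) = 0 := by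
  rw [Ext.comp_assoc_of_third_deg_zero, Ext.mk₀_comp_mk₀, S.zero, Ext.mk₀_zero, Ext.comp_zero]

lemma comp_g_δ (n n' : ℕ) (h : n + 1 = n') (x : Ext.{w} M S.X₂ n) :
    (x.comp (Ext.mk₀ S.g) (add_zero n)).comp hS.extClass h = 0 := by
  rw [Ext.comp_assoc_of_second_deg_zero, hS.comp_extClass, Ext.comp_zero]

lemma comp_δ_f (n n' : ℕ) (h : n + 1 = n') (x : Ext.{w} M S.X₃ n) :
    (x.comp hS.extClass h).comp (Ext.mk₀ S.f) (add_zero n') = 0 := by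
  rw [Ext.comp_assoc_of_third_deg_zero, hS.extClass_comp, Ext.comp_zero]

lemma comp_f_g' (n : ℕ) (y : Ext.{w} M (Φ.obj S.X₁) n) :
    (y.comp (Ext.mk₀ (Φ.map S.f)) (add_zero n)).comp (Ext.mk₀ (Φ.map S.g)) (add_zero n) = 0 :=
  comp_f_g (S := S.map Φ) n y

lemma comp_g_δ' (n n' : ℕ) (h : n + 1 = n') (y : Ext.{w} M (Φ.obj S.X₂) n) :
    (y.comp (Ext.mk₀ (Φ.map S.g)) (add_zero n)).comp (δ' (Φ := Φ) hS) h = 0 :=
  comp_g_δ (shortExact_map (Φ := Φ) hS) n n' h y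

lemma comp_δ_f' (n n' : ℕ) (h : n + 1 = n') (y : Ext.{w} M (Φ.obj S.X₃) n) :
    (y.comp (δ' (Φ := Φ) hS) h).comp (Ext.mk₀ (Φ.map S.f)) (add_zero n') = 0 :=
  comp_δ_f (shortExact_map (Φ := Φ) hS) n n' h y

include hS in
lemma exact₂' (n : ℕ) (y : Ext.{w} M (Φ.obj S.X₂) n)
    (hy : y.comp (Ext.mk₀ (Φ.map S.g)) (add_zero n) = 0) :
    ∃ y₁ : Ext.{w} M (Φ.obj S.X₁) n, y₁.comp (Ext.mk₀ (Φ.map S.f)) (add_zero n) = y :=
  Ext.covariant_sequence_exact₂ M (shortExact_map (Φ := Φ) hS) y hy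

lemma exact₃' (n₀ n₁ : ℕ) (hn₁ : n₀ + 1 = n₁) (y : Ext.{w} M (Φ.obj S.X₃) n₀)
    (hy : y.comp (δ' (Φ := Φ) hS) hn₁ = 0) :
    ∃ y₂ : Ext.{w} M (Φ.obj S.X₂) n₀, y₂.comp (Ext.mk₀ (Φ.map S.g)) (add_zero n₀) = y :=
  Ext.covariant_sequence_exact₃ M (shortExact_map (Φ := Φ) hS) y hn₁ hy

lemma exact₁' (n₀ n₁ : ℕ) (hn₁ : n₀ + 1 = n₁) (y : Ext.{w} M (Φ.obj S.X₁) n₁)
    (hy : y.comp (Ext.mk₀ (Φ.map S.f)) (add_zero n₁) = 0) :
    ∃ y₃ : Ext.{w} M (Φ.obj S.X₃) n₀, y₃.comp (δ' (Φ := Φ) hS) hn₁ = y :=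
  Ext.covariant_sequence_exact₁ M (shortExact_map (Φ := Φ) hS) y hy hn₁

/-! ### two out of three -/

include hS in
theorem good_X₂ (h₁ : Good.{w} Φ η M S.X₁) (h₃ : Good.{w} Φ η M S.X₃) :
    Good.{w} Φ η M S.X₂ := by
  intro n
  constructor
  · rw [injective_iff_map_eq_zero]
    intro x₂ hx₂
    -- image in `X₃` vanishes
    have e1 : x₂.comp (Ext.mk₀ S.g) (add_zero n) = 0 := by
      apply (h₃ n).1
      rw [comm_g, hx₂, Ext.zero_comp, map_zero]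
    obtain ⟨x₁, rfl⟩ := Ext.covariant_sequence_exact₂ M hS x₂ e1
    have e2 : (uMap Φ η M S.X₁ n x₁).comp (Ext.mk₀ (Φ.map S.f)) (add_zero n) = 0 := by
      rw [← comm_f]
      exact hx₂
    cases n with
    | zero =>
      have : Mono (Φ.map S.f) := by
        have := hS.mono_f
        infer_instance
      have e3 : uMap Φ η M S.X₁ 0 x₁ = 0 :=
        Ext.postcomp_mk₀_injective_of_mono M (Φ.map S.f) (e2.trans (map_zero _).symm)
      have e4 : x₁ = 0 := (h₁ 0).1 (e3.trans (map_zero _).symm)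
      rw [e4, Ext.zero_comp]
    | succ n₀ =>
      obtain ⟨y₃, hy₃⟩ := exact₁' hS n₀ (n₀ + 1) rfl _ e2
      obtain ⟨x₃, rfl⟩ := (h₃ n₀).2 y₃
      rw [← comm_δ] at hy₃
      have e4 : x₃.comp hS.extClass rfl = x₁ := (h₁ (n₀ + 1)).1 hy₃
      rw [← e4, comp_δ_f]
  · intro y₂
    obtain ⟨x₃, hx₃⟩ := (h₃ n).2 (y₂.comp (Ext.mk₀ (Φ.map S.g)) (add_zero n))
    have e1 : x₃.comp hS.extClass rfl = 0 := by
      apply (h₁ (n + 1)).1
      rw [comm_δ, hx₃, comp_g_δ', map_zero]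
    obtain ⟨x₂, rfl⟩ := Ext.covariant_sequence_exact₃ M hS x₃ rfl e1
    have e2 : (y₂ - uMap Φ η M S.X₂ n x₂).comp (Ext.mk₀ (Φ.map S.g)) (add_zero n) = 0 := by
      rw [ext_sub_comp, ← comm_g, hx₃, sub_self]
    obtain ⟨y₁, hy₁⟩ := exact₂' hS n _ e2
    obtain ⟨x₁, rfl⟩ := (h₁ n).2 y₁
    refine ⟨x₂ + x₁.comp (Ext.mk₀ S.f) (add_zero n), ?_⟩
    rw [map_add, comm_f, hy₁]
    abel

include hS in
theorem good_X₁ (h₂ : Good.{w} Φ η M S.X₂) (h₃ : Good.{w} Φ η M S.X₃) :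
    Good.{w} Φ η M S.X₁ := by
  have hmono : Mono (Φ.map S.f) := by
    have := hS.mono_f
    infer_instance
  have hmonoS : Mono S.f := hS.mono_f
  intro n
  constructor
  · rw [injective_iff_map_eq_zero]
    intro x₁ hx₁
    have e1 : x₁.comp (Ext.mk₀ S.f) (add_zero n) = 0 := by
      apply (h₂ n).1
      rw [comm_f, hx₁, Ext.zero_comp, map_zero]
    cases n with
    | zero =>
      exact Ext.postcomp_mk₀_injective_of_mono M S.f (e1.trans (map_zero _).symm)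
    | succ n₀ =>
      obtain ⟨x₃, rfl⟩ := Ext.covariant_sequence_exact₁ M hS x₁ e1 rfl
      have e2 : (uMap Φ η M S.X₃ n₀ x₃).comp (δ' (Φ := Φ) hS) rfl = 0 := by
        rw [← comm_δ]
        exact hx₁
      obtain ⟨y₂, hy₂⟩ := exact₃' hS n₀ (n₀ + 1) rfl _ e2
      obtain ⟨x₂, rfl⟩ := (h₂ n₀).2 y₂
      rw [← comm_g] at hy₂
      have e3 : x₂.comp (Ext.mk₀ S.g) (add_zero n₀) = x₃ := (h₃ n₀).1 hy₂
      rw [← e3, comp_g_δ]
  · intro y₁
    obtain ⟨x₂, hx₂⟩ := (h₂ n).2 (y₁.comp (Ext.mk₀ (Φ.map S.f)) (add_zero n))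
    have e1 : x₂.comp (Ext.mk₀ S.g) (add_zero n) = 0 := by
      apply (h₃ n).1
      rw [comm_g, hx₂, comp_f_g', map_zero]
    obtain ⟨x₁, rfl⟩ := Ext.covariant_sequence_exact₂ M hS x₂ e1
    have e2 : (y₁ - uMap Φ η M S.X₁ n x₁).comp (Ext.mk₀ (Φ.map S.f)) (add_zero n) = 0 := by
      rw [ext_sub_comp, ← comm_f, hx₂, sub_self]
    cases n with
    | zero =>
      have e3 : y₁ - uMap Φ η M S.X₁ 0 x₁ = 0 :=
        Ext.postcomp_mk₀_injective_of_mono M (Φ.map S.f) (e2.trans (map_zero _).symm)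
      exact ⟨x₁, (sub_eq_zero.mp e3).symm⟩
    | succ n₀ =>
      obtain ⟨y₃, hy₃⟩ := exact₁' hS n₀ (n₀ + 1) rfl _ e2
      obtain ⟨x₃, rfl⟩ := (h₃ n₀).2 y₃
      rw [← comm_δ] at hy₃
      refine ⟨x₁ + x₃.comp hS.extClass rfl, ?_⟩
      rw [map_add, hy₃]
      abel

end

end Groth.Agent.H9.ExtBC
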