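import Mathlib
import Groth.Agent.H9.ExtBC.TwoOfThree

/-!
# Induction over a finite list of elements: reduction to modules which are power torsion
for every element of the list
-/

set_option autoImplicit false
universe u
open CategoryTheory Limits Abelian

namespace Groth.Agent.H9.ExtBC

variable {A : Type u} [CommRing A]

/-- every element of `N` is killed by a power of each element of `l` -/
def Tors (l : List A) (N : Type u) [AddCommGroup N] [Module A N] : Prop :=
  ∀ g ∈ l, ∀ x : N, ∃ n : ℕ, g ^ n • x = 0

lemma Tors.of_injective {l : List A} {N N' : Type u} [AddCommGroup N] [Module A N]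
    [AddCommGroup N'] [Module A N'] (j : N' →ₗ[A] N) (hj : Function.Injective j)
    (h : Tors l N) : Tors l N' := by
  intro g hg x
  obtain ⟨n, hn⟩ := h g hg (j x)
  refine ⟨n, hj ?_⟩
  rw [map_smul, hn, map_zero]

lemma Tors.of_surjective {l : List A} {N N' : Type u} [AddCommGroup N] [Module A N]
    [AddCommGroup N'] [Module A N'] (p : N →ₗ[A] N') (hp : Function.Surjective p)
    (h : Tors l N) : Tors l N' := by
  intro g hg x
  obtain ⟨y, rfl⟩ := hp x
  obtain ⟨n, hn⟩ := h g hg y
  exact ⟨n, by rw [← map_smul, hn, map_zero]⟩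

section loc

variable (f : A) (N : Type u) [AddCommGroup N] [Module A N]

lemma bijective_smul_localizedModule :
    Function.Bijective (fun y : LocalizedModule (Submonoid.powers f) N => f • y) := by
  have hu := IsLocalizedModule.map_units (LocalizedModule.mkLinearMap (Submonoid.powers f) N)
    (⟨f, 1, pow_one f⟩ : Submonoid.powers f)
  exact (Module.End.isUnit_iff _).1 hu

lemma injective_pow_smul_localizedModule (n : ℕ) :
    Function.Injective (fun y : LocalizedModule (Submonoid.powers f) N => f ^ n • y) := by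
  have hu := IsLocalizedModule.map_units (LocalizedModule.mkLinearMap (Submonoid.powers f) N)
    (⟨f ^ n, n, rfl⟩ : Submonoid.powers f)
  exact ((Module.End.isUnit_iff _).1 hu).1

lemma tors_localizedModule {l : List A} (h : Tors l N) :
    Tors l (LocalizedModule (Submonoid.powers f) N) := by
  intro g hg y
  obtain ⟨⟨x, ⟨_, n, rfl⟩⟩, hxy⟩ := IsLocalizedModule.surj (Submonoid.powers f)
    (LocalizedModule.mkLinearMap (Submonoid.powers f) N) y
  have hxy' : f ^ n • y = LocalizedModule.mkLinearMap (Submonoid.powers f) N x := hxy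
  obtain ⟨m, hm⟩ := h g hg x
  refine ⟨m, injective_pow_smul_localizedModule f N n ?_⟩
  change f ^ n • g ^ m • y = f ^ n • 0
  rw [smul_comm, hxy', ← map_smul, hm, map_zero, smul_zero]

lemma tors_ker_mkLinearMap
    (x : N) (hx : LocalizedModule.mkLinearMap (Submonoid.powers f) N x = 0) :
    ∃ n : ℕ, f ^ n • x = 0 := by
  rw [IsLocalizedModule.eq_zero_iff (Submonoid.powers f)] at hx
  obtain ⟨⟨_, n, rfl⟩, hs⟩ := hx
  exact ⟨n, hs⟩

lemma tors_coker_mkLinearMap (y : LocalizedModule (Submonoid.powers f) N) :
    ∃ n : ℕ, f ^ n • y ∈ LinearMap.range (LocalizedModule.mkLinearMap (Submonoid.powers f) N) := by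
  obtain ⟨⟨x, ⟨_, n, rfl⟩⟩, hxy⟩ := IsLocalizedModule.surj (Submonoid.powers f)
    (LocalizedModule.mkLinearMap (Submonoid.powers f) N) y
  exact ⟨n, x, hxy.symm⟩

end loc

section induct

variable (Φ : ModuleCat.{u} A ⥤ ModuleCat.{u} A) [Φ.Additive] [PreservesFiniteLimits Φ]
  [PreservesFiniteColimits Φ] (η : 𝟭 (ModuleCat.{u} A) ⟶ Φ) (M : ModuleCat.{u} A)

theorem good_step (l : List A) (f : A)
    (hinv : ∀ X : ModuleCat.{u} A, Function.Bijective (fun x : X => f • x) →
      Good.{u} Φ η M X)
    (h : ∀ N : ModuleCat.{u} A, Tors (l ++ [f]) N → Good.{u} Φ η M N) :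
    ∀ N : ModuleCat.{u} A, Tors l N → Good.{u} Φ η M N := by
  intro N hN
  let u : N →ₗ[A] LocalizedModule (Submonoid.powers f) N :=
    LocalizedModule.mkLinearMap (Submonoid.powers f) N
  let S₁ : ShortComplex (ModuleCat.{u} A) := (u.rangeRestrict).shortComplexKer
  have hS₁ : S₁.ShortExact := LinearMap.shortExact_shortComplexKer (f := u.rangeRestrict)
    (LinearMap.surjective_rangeRestrict u)
  let S₂ : ShortComplex (ModuleCat.{u} A) :=
    ShortComplex.mk (ModuleCat.ofHom (LinearMap.range u).subtype)
      (ModuleCat.ofHom (LinearMap.range u).mkQ) (by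
        ext x
        exact (Submodule.Quotient.mk_eq_zero _).mpr x.2)
  have hS₂ : S₂.ShortExact := ModuleCat.shortComplex_shortExact S₂
    (LinearMap.exact_subtype_mkQ _) (Submodule.injective_subtype _)
    (Submodule.mkQ_surjective _)
  have tLoc : Tors l (LocalizedModule (Submonoid.powers f) N) := tors_localizedModule f N hN
  have tK : Tors (l ++ [f]) (LinearMap.ker u.rangeRestrict) := by
    intro g hg
    rw [List.mem_append, List.mem_singleton] at hg
    rcases hg with hg | rfl
    · exact Tors.of_injective (LinearMap.ker u.rangeRestrict).subtype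
        (Submodule.injective_subtype _) hN g hg
    · intro x
      have hx : u x.1 = 0 := by
        have := x.2
        rw [LinearMap.mem_ker] at this
        exact congrArg Subtype.val this
      obtain ⟨n, hn⟩ := tors_ker_mkLinearMap g N x.1 hx
      exact ⟨n, Subtype.ext hn⟩
  have tQ : Tors (l ++ [f]) (LocalizedModule (Submonoid.powers f) N ⧸ LinearMap.range u) := by
    intro g hg
    rw [List.mem_append, List.mem_singleton] at hg
    rcases hg with hg | rfl
    · exact Tors.of_surjective (LinearMap.range u).mkQ (Submodule.mkQ_surjective _) tLoc g hg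
    · intro x
      obtain ⟨y, rfl⟩ := Submodule.mkQ_surjective _ x
      obtain ⟨n, hn⟩ := tors_coker_mkLinearMap g N y
      refine ⟨n, ?_⟩
      rw [← map_smul, Submodule.mkQ_apply, Submodule.Quotient.mk_eq_zero]
      exact hn
  have gK : Good.{u} Φ η M S₁.X₁ := h _ tK
  have gLoc : Good.{u} Φ η M S₂.X₂ := hinv _ (bijective_smul_localizedModule f N)
  have gQ : Good.{u} Φ η M S₂.X₃ := h _ tQ
  have gR : Good.{u} Φ η M S₂.X₁ := good_X₁.{u} hS₂ gLoc gQ
  have gR' : Good.{u} Φ η M S₁.X₃ := gR
  have key : Good.{u} Φ η M S₁.X₂ := good_X₂.{u} hS₁ gK gR'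
  exact key

theorem good_of_tors (l₂ : List A)
    (hinv : ∀ f ∈ l₂, ∀ X : ModuleCat.{u} A, Function.Bijective (fun x : X => f • x) →
      Good.{u} Φ η M X) :
    ∀ (l₁ : List A), (∀ N : ModuleCat.{u} A, Tors (l₁ ++ l₂) N → Good.{u} Φ η M N) →
      ∀ N : ModuleCat.{u} A, Tors l₁ N → Good.{u} Φ η M N := by
  induction l₂ with
  | nil =>
    intro l₁ h N hN
    exact h N (by simpa using hN)
  | cons f l₂ ih =>
    intro l₁ h
    apply good_step Φ η M l₁ f (hinv f (by simp))
    apply ih (fun g hg => hinv g (by simp [hg])) (l₁ ++ [f])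
    intro N hN
    exact h N (by simpa using hN)

/-- the final form: if `Good` holds for modules that are power torsion for all elements of `l`
and for modules on which some element of `l` acts bijectively, then it holds for all modules -/
theorem good_all (l : List A)
    (hinv : ∀ f ∈ l, ∀ X : ModuleCat.{u} A, Function.Bijective (fun x : X => f • x) →
      Good.{u} Φ η M X)
    (hbase : ∀ N : ModuleCat.{u} A, Tors l N → Good.{u} Φ η M N)
    (N : ModuleCat.{u} A) : Good.{u} Φ η M N :=
  good_of_tors Φ η M l hinv [] (fun N hN => hbase N (by simpa using hN)) N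
    (fun g hg => by simp at hg)

end induct

end Groth.Agent.H9.ExtBC
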