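import Mathlib

/-!
# `N → B ⊗_A N` is bijective for `I`-power torsion `N` when `A → B` is flat and `A/I ≅ B/IB`
-/

set_option autoImplicit false
universe u v
open TensorProduct

namespace Groth.Agent.H9.ExtBC

variable {A : Type u} {B : Type u} [CommRing A] [CommRing B] [Algebra A B]
  (I : Ideal A)

/-- the class of modules `Y` with `Y → B ⊗ Y` bijective -/
def UnitBij (A : Type u) (B : Type u) [CommRing A] [CommRing B] [Algebra A B] (Y : Type v)
    [AddCommGroup Y] [Module A Y] :
    Prop :=
  Function.Bijective (TensorProduct.mk A B Y 1)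

section killed

variable (hs : Function.Surjective ((Ideal.Quotient.mk (I.map (algebraMap A B))).comp
    (algebraMap A B)))
  (hk : RingHom.ker ((Ideal.Quotient.mk (I.map (algebraMap A B))).comp (algebraMap A B)) = I)

include hs in
lemma mk_surjective_of_killed (Y : Type v) [AddCommGroup Y] [Module A Y]
    (hY : ∀ a ∈ I, ∀ y : Y, a • y = 0) :
    Function.Surjective (TensorProduct.mk A B Y 1) := by
  have h0 : ∀ c ∈ I.map (algebraMap A B), ∀ y : Y, c ⊗ₜ[A] y = (0 : B ⊗[A] Y) := by
    intro c hc y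
    refine Submodule.span_induction (p := fun c _ => c ⊗ₜ[A] y = (0 : B ⊗[A] Y))
      ?_ ?_ ?_ ?_ hc
    · rintro _ ⟨i, hi, rfl⟩
      have : algebraMap A B i = i • (1 : B) := by rw [Algebra.smul_def, mul_one]
      rw [this, TensorProduct.smul_tmul, hY i hi y, TensorProduct.tmul_zero]
    · exact TensorProduct.zero_tmul _ _
    · intro x x' _ _ hx hx'
      rw [TensorProduct.add_tmul, hx, hx', add_zero]
    · intro b x _ hx
      have : (b • x) ⊗ₜ[A] y = b • (x ⊗ₜ[A] y) := (TensorProduct.smul_tmul' b x y).symm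
      rw [this, hx, smul_zero]
  intro z
  induction z using TensorProduct.induction_on with
  | zero => exact ⟨0, map_zero _⟩
  | tmul b y =>
    obtain ⟨a, ha⟩ := hs (Ideal.Quotient.mk _ b)
    have hmem : b - algebraMap A B a ∈ I.map (algebraMap A B) := by
      rw [← Ideal.Quotient.eq]
      exact ha.symm
    refine ⟨a • y, ?_⟩
    have h1 := h0 _ hmem y
    rw [TensorProduct.sub_tmul, sub_eq_zero] at h1
    rw [h1]
    change (1 : B) ⊗ₜ[A] (a • y) = _
    rw [← TensorProduct.smul_tmul, Algebra.smul_def, mul_one]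
  | add x x' hx hx' =>
    obtain ⟨y, rfl⟩ := hx
    obtain ⟨y', rfl⟩ := hx'
    exact ⟨y + y', map_add _ _ _⟩

include hs hk in
lemma mk_injective_of_killed (Y : Type v) [AddCommGroup Y] [Module A Y]
    (hY : ∀ a ∈ I, ∀ y : Y, a • y = 0) :
    Function.Injective (TensorProduct.mk A B Y 1) := by
  -- the ring map `B → A/I`
  let e : (A ⧸ RingHom.ker ((Ideal.Quotient.mk (I.map (algebraMap A B))).comp
      (algebraMap A B))) ≃+* (B ⧸ I.map (algebraMap A B)) :=
    RingHom.quotientKerEquivOfSurjective hs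
  let ψ₀ : B →+* (A ⧸ RingHom.ker ((Ideal.Quotient.mk (I.map (algebraMap A B))).comp
      (algebraMap A B))) :=
    (e.symm : _ →+* _).comp (Ideal.Quotient.mk (I.map (algebraMap A B)))
  have hψ₀ : ∀ a : A, ψ₀ (algebraMap A B a) = Ideal.Quotient.mk _ a := by
    intro a
    change e.symm (Ideal.Quotient.mk _ (algebraMap A B a)) = _
    rw [RingEquiv.symm_apply_eq]
    rfl
  -- `Y` is a module over the quotient
  have htors : Module.IsTorsionBySet A Y
      (RingHom.ker ((Ideal.Quotient.mk (I.map (algebraMap A B))).comp (algebraMap A B)) : Set A) := by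
    rw [hk]
    intro y a
    exact hY a.1 a.2 y
  let _ : Module (A ⧸ RingHom.ker ((Ideal.Quotient.mk (I.map (algebraMap A B))).comp
      (algebraMap A B))) Y := htors.module
  have hmk : ∀ (a : A) (y : Y), (Ideal.Quotient.mk (RingHom.ker
      ((Ideal.Quotient.mk (I.map (algebraMap A B))).comp (algebraMap A B))) a) • y = a • y :=
    fun a y => Module.IsTorsionBySet.mk_smul htors a y
  let lam : B ⊗[A] Y →ₗ[A] Y := TensorProduct.lift
    (LinearMap.mk₂ A (fun (b : B) (y : Y) => ψ₀ b • y)
      (fun b b' y => by simp only [map_add, add_smul])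
      (fun a b y => by
        simp only [Algebra.smul_def, map_mul, hψ₀, mul_smul, hmk])
      (fun b y y' => by simp only [smul_add])
      (fun a b y => by
        obtain ⟨a', ha'⟩ := Ideal.Quotient.mk_surjective (ψ₀ b)
        simp only [← ha', hmk]
        exact smul_comm _ _ _))
  have hlam : ∀ y : Y, lam ((TensorProduct.mk A B Y 1) y) = y := by
    intro y
    change lam ((1 : B) ⊗ₜ[A] y) = y
    rw [TensorProduct.lift.tmul]
    change ψ₀ 1 • y = y
    rw [map_one, one_smul]
  intro y y' h
  have h2 := congrArg lam h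
  rwa [hlam, hlam] at h2

include hs hk in
lemma unitBij_of_killed (Y : Type v) [AddCommGroup Y] [Module A Y]
    (hY : ∀ a ∈ I, ∀ y : Y, a • y = 0) : UnitBij A B Y :=
  ⟨mk_injective_of_killed I hs hk Y hY, mk_surjective_of_killed I hs Y hY⟩

end killed

section ext

variable [Module.Flat A B]

/-- `UnitBij` is closed under extensions (for flat `B`) -/
lemma unitBij_of_exact {Y' Y Y'' : Type v} [AddCommGroup Y'] [Module A Y'] [AddCommGroup Y]
    [Module A Y] [AddCommGroup Y''] [Module A Y''] (j : Y' →ₗ[A] Y) (p : Y →ₗ[A] Y'')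
    (hj : Function.Injective j) (hjp : Function.Exact j p) (hp : Function.Surjective p)
    (h' : UnitBij A B Y') (h'' : UnitBij A B Y'') : UnitBij A B Y := by
  have hjB : Function.Injective (j.lTensor B) :=
    Module.Flat.lTensor_preserves_injective_linearMap j hj
  have hexB : Function.Exact (j.lTensor B) (p.lTensor B) := Module.Flat.lTensor_exact B hjp
  constructor
  · rw [← LinearMap.ker_eq_bot, LinearMap.ker_eq_bot']
    intro y hy
    have hy' : (1 : B) ⊗ₜ[A] y = 0 := hy
    have h1 : (TensorProduct.mk A B Y'' 1) (p y) = 0 := by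
      change (1 : B) ⊗ₜ[A] (p y) = 0
      have := congrArg (p.lTensor B) hy'
      rwa [LinearMap.lTensor_tmul, map_zero] at this
    have h2 : p y = 0 := h''.1 (h1.trans (map_zero _).symm)
    obtain ⟨y', rfl⟩ := (hjp y).mp h2
    have h3 : (j.lTensor B) ((1 : B) ⊗ₜ[A] y') = 0 := by
      rw [LinearMap.lTensor_tmul]
      exact hy'
    have h4 : (1 : B) ⊗ₜ[A] y' = 0 := hjB (h3.trans (map_zero _).symm)
    have h5 : y' = 0 := h'.1 (h4.trans (map_zero _).symm)
    rw [h5, map_zero]
  · intro z
    obtain ⟨y'', hy''⟩ := h''.2 ((p.lTensor B) z)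
    have hy''' : (1 : B) ⊗ₜ[A] y'' = (p.lTensor B) z := hy''
    obtain ⟨y, rfl⟩ := hp y''
    have h1 : (p.lTensor B) (z - (1 : B) ⊗ₜ[A] y) = 0 := by
      rw [map_sub, LinearMap.lTensor_tmul, hy''', sub_self]
    obtain ⟨w, hw⟩ := (hexB _).mp h1
    obtain ⟨y', hy'⟩ := h'.2 w
    have hy'2 : (1 : B) ⊗ₜ[A] y' = w := hy'
    refine ⟨y + j y', ?_⟩
    change (1 : B) ⊗ₜ[A] (y + j y') = z
    rw [TensorProduct.tmul_add, ← LinearMap.lTensor_tmul, hy'2, hw]
    abel

/-- modules killed by a power of `I` -/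
lemma unitBij_of_killed_pow
    (hs : Function.Surjective ((Ideal.Quotient.mk (I.map (algebraMap A B))).comp
      (algebraMap A B)))
    (hk : RingHom.ker ((Ideal.Quotient.mk (I.map (algebraMap A B))).comp (algebraMap A B)) = I)
    (n : ℕ) : ∀ (Y : Type v) [AddCommGroup Y] [Module A Y]
    (_ : ∀ a ∈ I ^ n, ∀ y : Y, a • y = 0), UnitBij A B Y := by
  induction n with
  | zero =>
    intro Y _ _ hY
    have hsub : ∀ y : Y, y = 0 := fun y => by
      have := hY 1 (by simp) y
      rwa [one_smul] at this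
    refine unitBij_of_killed I hs hk Y (fun a _ y => ?_)
    rw [hsub y, smul_zero]
  | succ n ih =>
    intro Y _ _ hY
    let Y' : Submodule A Y := Submodule.torsionBySet A Y ((I ^ n : Ideal A) : Set A)
    have h' : UnitBij A B Y' := by
      apply ih
      intro a ha y
      apply Subtype.ext
      have := (Submodule.mem_torsionBySet_iff _ _).mp y.2 ⟨a, ha⟩
      exact this
    have h'' : UnitBij A B (Y ⧸ Y') := by
      refine unitBij_of_killed I hs hk _ (fun a ha y => ?_)
      obtain ⟨y, rfl⟩ := Submodule.Quotient.mk_surjective _ y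
      rw [← Submodule.Quotient.mk_smul, Submodule.Quotient.mk_eq_zero,
        Submodule.mem_torsionBySet_iff]
      rintro ⟨c, hc⟩
      change c • a • y = 0
      rw [smul_smul]
      exact hY _ (by rw [pow_succ]; exact Ideal.mul_mem_mul hc ha) y
    exact unitBij_of_exact Y'.subtype Y'.mkQ Y'.injective_subtype
      (LinearMap.exact_subtype_mkQ Y') (Submodule.mkQ_surjective Y') h' h''

/-- `I`-power torsion modules -/
theorem unitBij_of_powerTorsion
    (hs : Function.Surjective ((Ideal.Quotient.mk (I.map (algebraMap A B))).comp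
      (algebraMap A B)))
    (hk : RingHom.ker ((Ideal.Quotient.mk (I.map (algebraMap A B))).comp (algebraMap A B)) = I)
    (N : Type v) [AddCommGroup N] [Module A N]
    (hN : ∀ m : N, ∃ n : ℕ, ∀ a ∈ I ^ n, a • m = 0) : UnitBij A B N := by
  have hsub : ∀ n : ℕ, UnitBij A B
      (Submodule.torsionBySet A N ((I ^ n : Ideal A) : Set A)) := by
    intro n
    apply unitBij_of_killed_pow I hs hk n
    intro a ha y
    apply Subtype.ext
    exact (Submodule.mem_torsionBySet_iff _ _).mp y.2 ⟨a, ha⟩
  constructor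
  · rw [← LinearMap.ker_eq_bot, LinearMap.ker_eq_bot']
    intro y hy
    have hy' : (1 : B) ⊗ₜ[A] y = 0 := hy
    obtain ⟨n, hn⟩ := hN y
    let Nn := Submodule.torsionBySet A N ((I ^ n : Ideal A) : Set A)
    have hmem : y ∈ Nn := (Submodule.mem_torsionBySet_iff _ _).mpr (fun a => hn a.1 a.2)
    have hinj : Function.Injective (Nn.subtype.lTensor B) :=
      Module.Flat.lTensor_preserves_injective_linearMap _ Nn.injective_subtype
    have h1 : (Nn.subtype.lTensor B) ((1 : B) ⊗ₜ[A] (⟨y, hmem⟩ : Nn)) = 0 := by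
      rw [LinearMap.lTensor_tmul]
      exact hy'
    have h2 : (1 : B) ⊗ₜ[A] (⟨y, hmem⟩ : Nn) = 0 := hinj (h1.trans (map_zero _).symm)
    have h3 : (⟨y, hmem⟩ : Nn) = 0 := (hsub n).1 (h2.trans (map_zero _).symm)
    exact congrArg Subtype.val h3
  · intro z
    induction z using TensorProduct.induction_on with
    | zero => exact ⟨0, map_zero _⟩
    | tmul b y =>
      obtain ⟨n, hn⟩ := hN y
      let Nn := Submodule.torsionBySet A N ((I ^ n : Ideal A) : Set A)
      have hmem : y ∈ Nn := (Submodule.mem_torsionBySet_iff _ _).mpr (fun a => hn a.1 a.2)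
      obtain ⟨y', hy'⟩ := (hsub n).2 (b ⊗ₜ[A] (⟨y, hmem⟩ : Nn))
      have hy'2 : (1 : B) ⊗ₜ[A] y' = b ⊗ₜ[A] (⟨y, hmem⟩ : Nn) := hy'
      refine ⟨y'.1, ?_⟩
      have := congrArg (Nn.subtype.lTensor B) hy'2
      rw [LinearMap.lTensor_tmul, LinearMap.lTensor_tmul] at this
      exact this
    | add x x' hx hx' =>
      obtain ⟨y, rfl⟩ := hx
      obtain ⟨y', rfl⟩ := hx'
      exact ⟨y + y', map_add _ _ _⟩

end ext

end Groth.Agent.H9.ExtBC
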