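import Groth.Agent.H9.ExtBC.Vanish
import Groth.Agent.H9.ExtBC.TorsionIso
import Groth.Agent.H9.ExtBC.Induct

/-!
# `Ext^i_A(M, N) ≅ Ext^i_B(B ⊗ M, B ⊗ N)` for `I`-power torsion `M`
-/

set_option autoImplicit false
universe u
open CategoryTheory Limits Abelian TensorProduct

namespace Groth.Agent.H9.ExtBC

attribute [local instance] HasDerivedCategory.standard

variable {A B : Type u} [CommRing A] [CommRing B] [Algebra A B]

variable (A B) in
/-- `N ↦ B ⊗_A N` viewed as an `A`-module -/
noncomputable abbrev Φ : ModuleCat.{u} A ⥤ ModuleCat.{u} A := F A B ⋙ G A B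

open ChangeOfRings in
lemma F_map_smul (f : A) (X : ModuleCat.{u} A) :
    (F A B).map (ModuleCat.ofHom (f • (LinearMap.id : X →ₗ[A] X))) =
      ModuleCat.ofHom ((algebraMap A B f) • (LinearMap.id :
        ((F A B).obj X) →ₗ[B] ((F A B).obj X))) := by
  apply ModuleCat.ExtendScalars.hom_ext
  intro m
  erw [ModuleCat.ExtendScalars.map_tmul]
  have e1 : (ConcreteCategory.hom (ModuleCat.ofHom (f • (LinearMap.id : X →ₗ[A] X)))) m = f • m :=
    rfl
  rw [e1]
  have e2 : ∀ w : (F A B).obj X, (ConcreteCategory.hom (ModuleCat.ofHom ((algebraMap A B f) •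
      (LinearMap.id : ((F A B).obj X) →ₗ[B] ((F A B).obj X))))) w = (algebraMap A B f) • w :=
    fun w => rfl
  erw [e2, ModuleCat.ExtendScalars.smul_tmul]
  let o : (ModuleCat.restrictScalars (algebraMap A B)).obj (ModuleCat.of B B) := (1 : B)
  have e3 : o ⊗ₜ[A] (f • m) = (f • o) ⊗ₜ[A] m := (TensorProduct.smul_tmul f o m).symm
  refine e3.trans ?_
  congr 1

/-- scalar multiplication by `f : A` on `Φ X` is `Φ` of scalar multiplication by `f` on `X` -/
lemma Φ_map_smul (f : A) (X : ModuleCat.{u} A) (z : (Φ A B).obj X) :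
    ((Φ A B).map (ModuleCat.ofHom (f • (LinearMap.id : X →ₗ[A] X)))).hom z = f • z := by
  have hz : f • z = (algebraMap A B f) • (show ((F A B).obj X) from z) :=
    ModuleCat.restrictScalars.smul_def (algebraMap A B) (M := (F A B).obj X) f z
  rw [hz]
  change ((F A B).map (ModuleCat.ofHom (f • (LinearMap.id : X →ₗ[A] X)))).hom
    (show ((F A B).obj X) from z) = _
  rw [F_map_smul]
  rfl

lemma bijective_smul_Φ (f : A) (X : ModuleCat.{u} A)
    (hX : Function.Bijective (fun x : X => f • x)) :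
    Function.Bijective (fun z : (Φ A B).obj X => f • z) := by
  let g : X ⟶ X := ModuleCat.ofHom (f • (LinearMap.id : X →ₗ[A] X))
  have hg : IsIso g := (ConcreteCategory.isIso_iff_bijective g).mpr hX
  have h2 : IsIso ((Φ A B).map g) := inferInstance
  have h3 := (ConcreteCategory.isIso_iff_bijective _).mp h2
  have h4 : (fun z : (Φ A B).obj X => f • z) = ⇑(ConcreteCategory.hom ((Φ A B).map g)) := by
    funext z
    exact (Φ_map_smul f X z).symm
  rw [h4]
  exact h3

section main

variable [Module.Flat A B] (I : Ideal A) (hI : I.FG)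
  (hs : Function.Surjective ((Ideal.Quotient.mk (I.map (algebraMap A B))).comp
    (algebraMap A B)))
  (hk : RingHom.ker ((Ideal.Quotient.mk (I.map (algebraMap A B))).comp (algebraMap A B)) = I)

/-- `Ext` vanishing in the form needed -/
lemma subsingleton_ext_of_torsion_of_bijective (f : A) (M X : ModuleCat.{u} A)
    (hM : ∀ m : M, ∃ n : ℕ, f ^ n • m = 0)
    (hX : Function.Bijective (fun x : X => f • x)) (n : ℕ) :
    Subsingleton (Ext.{u} M X n) := by
  have := subsingleton_hom_of_torsion_of_bijective f M X hM hX (n : ℤ)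
  exact (Ext.homAddEquiv (X := M) (Y := X) (n := n)).toEquiv.subsingleton

include hI hs hk in
theorem good_main (M : ModuleCat.{u} A) (hM : ∀ m : M, ∃ n : ℕ, ∀ a ∈ I ^ n, a • m = 0)
    (N : ModuleCat.{u} A) : Good.{u} (Φ A B) (adjFG A B).unit M N := by
  obtain ⟨s, hs'⟩ := hI
  have hsI : ∀ f ∈ s.toList, f ∈ I := by
    intro f hf
    rw [Finset.mem_toList] at hf
    rw [← hs']
    exact Ideal.subset_span hf
  have hMf : ∀ f ∈ I, ∀ m : M, ∃ n : ℕ, f ^ n • m = 0 := by
    intro f hf m
    obtain ⟨n, hn⟩ := hM m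
    exact ⟨n, hn _ (Ideal.pow_mem_pow hf n)⟩
  apply good_all (Φ A B) (adjFG A B).unit M s.toList
  · intro f hf X hX
    apply good_of_subsingleton
    · intro n
      exact subsingleton_ext_of_torsion_of_bijective f M X (hMf f (hsI f hf)) hX n
    · intro n
      exact subsingleton_ext_of_torsion_of_bijective f M _ (hMf f (hsI f hf))
        (bijective_smul_Φ f X hX) n
  · intro N' hN'
    have hpt : ∀ m : N', ∃ n : ℕ, ∀ a ∈ I ^ n, a • m = 0 := by
      intro m
      let J : Ideal A := LinearMap.ker (LinearMap.toSpanSingleton A N' m)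
      have hle : I ≤ J.radical := by
        rw [← hs', Ideal.span_le]
        intro g hg
        obtain ⟨n, hn⟩ := hN' g (Finset.mem_toList.mpr hg) m
        refine ⟨n, ?_⟩
        change (LinearMap.toSpanSingleton A N' m) (g ^ n) = 0
        rw [LinearMap.toSpanSingleton_apply]
        exact hn
      obtain ⟨k, hk'⟩ := Ideal.exists_pow_le_of_le_radical_of_fg hle ⟨s, hs'⟩
      refine ⟨k, fun a ha => ?_⟩
      have := hk' ha
      change (LinearMap.toSpanSingleton A N' m) a = 0 at this
      rwa [LinearMap.toSpanSingleton_apply] at this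
    have hbij : UnitBij A B N' := unitBij_of_powerTorsion I hs hk N' hpt
    have : IsIso ((adjFG A B).unit.app N') := (isIso_unit_iff N').mpr hbij
    exact good_of_isIso N'

lemma subsingleton_hom_neg {C : Type*} [Category C] [Abelian C] [HasDerivedCategory C]
    (X Y : C) (i : ℤ) (hi : i < 0) :
    Subsingleton ((DerivedCategory.singleFunctor C 0).obj X ⟶
      ((DerivedCategory.singleFunctor C 0).obj Y)⟦i⟧) := by
  have : DerivedCategory.TStructure.t.IsGE
      (((DerivedCategory.singleFunctor C 0).obj Y)⟦i⟧) (-i) :=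
    DerivedCategory.TStructure.t.isGE_shift ((DerivedCategory.singleFunctor C 0).obj Y) 0 i (-i)
      (by omega)
  refine ⟨fun a b => ?_⟩
  rw [DerivedCategory.TStructure.t.zero a 0 (-i) (by omega),
    DerivedCategory.TStructure.t.zero b 0 (-i) (by omega)]

include hI hs hk in
theorem ext_iso (M N : Type u) [AddCommGroup M] [Module A M] [AddCommGroup N] [Module A N]
    (hM : ∀ m : M, ∃ n : ℕ, ∀ a ∈ I ^ n, a • m = 0) (i : ℤ) :
    Nonempty
      (((DerivedCategory.singleFunctor (ModuleCat.{u} A) 0).obj (ModuleCat.of A M) ⟶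
        ((DerivedCategory.singleFunctor (ModuleCat.{u} A) 0).obj (ModuleCat.of A N))⟦i⟧) ≃+
      ((DerivedCategory.singleFunctor (ModuleCat.{u} B) 0).obj (ModuleCat.of B (B ⊗[A] M)) ⟶
        ((DerivedCategory.singleFunctor (ModuleCat.{u} B) 0).obj
          (ModuleCat.of B (B ⊗[A] N)))⟦i⟧)) := by
  by_cases hi : i < 0
  · have h1 := subsingleton_hom_neg (ModuleCat.of A M) (ModuleCat.of A N) i hi
    have h2 := subsingleton_hom_neg (ModuleCat.of B (B ⊗[A] M)) (ModuleCat.of B (B ⊗[A] N)) i hi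
    let _ := uniqueOfSubsingleton (0 : (DerivedCategory.singleFunctor (ModuleCat.{u} A) 0).obj
      (ModuleCat.of A M) ⟶
        ((DerivedCategory.singleFunctor (ModuleCat.{u} A) 0).obj (ModuleCat.of A N))⟦i⟧)
    let _ := uniqueOfSubsingleton (0 : (DerivedCategory.singleFunctor (ModuleCat.{u} B) 0).obj
      (ModuleCat.of B (B ⊗[A] M)) ⟶
        ((DerivedCategory.singleFunctor (ModuleCat.{u} B) 0).obj
          (ModuleCat.of B (B ⊗[A] N)))⟦i⟧)
    exact ⟨AddEquiv.ofUnique⟩
  · obtain ⟨n, rfl⟩ := Int.eq_ofNat_of_zero_le (not_lt.mp hi)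
    let Mm : ModuleCat.{u} A := ModuleCat.of A M
    let Nn : ModuleCat.{u} A := ModuleCat.of A N
    let E1 : ((DerivedCategory.singleFunctor (ModuleCat.{u} A) 0).obj Mm ⟶
        ((DerivedCategory.singleFunctor (ModuleCat.{u} A) 0).obj Nn)⟦(n : ℤ)⟧) ≃+
        Ext.{u} Mm Nn n := (Ext.homAddEquiv (X := Mm) (Y := Nn) (n := n)).symm
    let E2 : Ext.{u} Mm Nn n ≃+ Ext.{u} Mm ((Φ A B).obj Nn) n :=
      AddEquiv.ofBijective (uMap (Φ A B) (adjFG A B).unit Mm Nn n)
        (good_main I hI hs hk Mm hM Nn n)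
    let E3 : Ext.{u} Mm ((Φ A B).obj Nn) n ≃+
        ((DerivedCategory.singleFunctor (ModuleCat.{u} A) 0).obj Mm ⟶
        ((DerivedCategory.singleFunctor (ModuleCat.{u} A) 0).obj ((Φ A B).obj Nn))⟦(n : ℤ)⟧) :=
      Ext.homAddEquiv (X := Mm) (Y := (Φ A B).obj Nn) (n := n)
    let E4 := (adjEquiv (B := B) Mm ((F A B).obj Nn) (n : ℤ)).symm
    let eM : (F A B).obj Mm ≅ ModuleCat.of B (B ⊗[A] M) :=
      (H12.BC.bridge (B := B) Mm).toModuleIso
    let eN : (F A B).obj Nn ≅ ModuleCat.of B (B ⊗[A] N) :=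
      (H12.BC.bridge (B := B) Nn).toModuleIso
    let E5 := addHomCongr
      ((DerivedCategory.singleFunctor (ModuleCat.{u} B) 0).mapIso eM)
      ((shiftFunctor (DerivedCategory (ModuleCat.{u} B)) (n : ℤ)).mapIso
        ((DerivedCategory.singleFunctor (ModuleCat.{u} B) 0).mapIso eN))
    exact ⟨((E1.trans E2).trans E3).trans (E4.trans E5)⟩

end main

end Groth.Agent.H9.ExtBC
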