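import Mathlib
import Groth.Agent.H33.DerAdjExact

/-!
# The flat base change adjunction on `Ext` groups computed in derived categories of modules
-/

set_option autoImplicit false
universe u
open CategoryTheory Limits

namespace Groth.Agent.H9.ExtBC

attribute [local instance] HasDerivedCategory.standard

/-- transport of hom groups along isomorphisms, additively -/
@[simps]
def addHomCongr {C : Type*} [Category C] [Preadditive C] {X X' Y Y' : C} (e : X ≅ X')
    (e' : Y ≅ Y') : (X ⟶ Y) ≃+ (X' ⟶ Y') where
  toFun f := e.inv ≫ f ≫ e'.hom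
  invFun g := e.hom ≫ g ≫ e'.inv
  left_inv f := by simp
  right_inv g := by simp
  map_add' f g := by simp

variable {A B : Type u} [CommRing A] [CommRing B] [Algebra A B]

variable (A B) in
/-- extension of scalars along `A → B` -/
noncomputable abbrev F : ModuleCat.{u} A ⥤ ModuleCat.{u} B :=
  ModuleCat.extendScalars.{u, u, u} (algebraMap A B)

variable (A B) in
/-- restriction of scalars along `A → B` -/
noncomputable abbrev G : ModuleCat.{u} B ⥤ ModuleCat.{u} A :=
  ModuleCat.restrictScalars.{u} (algebraMap A B)

variable (A B) in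
/-- the adjunction -/
noncomputable abbrev adjFG : F A B ⊣ G A B :=
  ModuleCat.extendRestrictScalarsAdj.{u, u, u} (algebraMap A B)

instance additive_F : (F A B).Additive := (adjFG A B).left_adjoint_additive

variable [Module.Flat A B]

instance preservesFiniteLimits_F : PreservesFiniteLimits (F A B) :=
  ModuleCat.preservesFiniteLimits_extendScalars_of_flat
    ((RingHom.flat_algebraMap_iff).2 inferInstance)

variable (A B) in
/-- the derived adjunction -/
noncomputable def dAdj : (F A B).mapDerivedCategory ⊣ (G A B).mapDerivedCategory :=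
  H33.DerAdjExact.derivedAdj (adjFG A B)

/-- `Hom_{D(B)}(B ⊗ M, Y[i]) ≃ Hom_{D(A)}(M, Y[i])` -/
noncomputable def adjEquiv (M : ModuleCat.{u} A) (Y : ModuleCat.{u} B) (i : ℤ) :
    ((DerivedCategory.singleFunctor (ModuleCat.{u} B) 0).obj ((F A B).obj M) ⟶
      ((DerivedCategory.singleFunctor (ModuleCat.{u} B) 0).obj Y)⟦i⟧) ≃+
    ((DerivedCategory.singleFunctor (ModuleCat.{u} A) 0).obj M ⟶
      ((DerivedCategory.singleFunctor (ModuleCat.{u} A) 0).obj ((G A B).obj Y))⟦i⟧) :=
  (addHomCongr (((F A B).mapDerivedCategorySingleFunctor 0).app M).symm (Iso.refl _)).trans <|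
  ((dAdj A B).homAddEquiv _ _).trans <|
  addHomCongr (Iso.refl _)
    ((((G A B).mapDerivedCategory.commShiftIso i).app _) ≪≫
      (shiftFunctor _ i).mapIso (((G A B).mapDerivedCategorySingleFunctor 0).app Y))

end Groth.Agent.H9.ExtBC
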