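import Groth.Agent.H9.ExtBC.Adj
import Groth.Agent.H12.Bridge

/-!
# `Hom_{D(A)}(M, X[i]) = 0` if `M` is `f`-power torsion and `f` acts bijectively on `X`
-/

set_option autoImplicit false
universe u
open CategoryTheory Limits TensorProduct

namespace Groth.Agent.H9.ExtBC

attribute [local instance] HasDerivedCategory.standard

variable {A : Type u} [CommRing A]

section

variable {B : Type u} [CommRing B] [Algebra A B]

lemma bridgeA_unit (X : ModuleCat.{u} A) (x : X) :
    H12.BC.bridgeA (B := B) X (((adjFG A B).unit.app X).hom x) = (1 : B) ⊗ₜ[A] x := rfl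

/-- the unit `X → B ⊗ X` of the adjunction is bijective iff `x ↦ 1 ⊗ x` is -/
lemma unit_bijective_iff (X : ModuleCat.{u} A) :
    Function.Bijective ((adjFG A B).unit.app X).hom ↔
      Function.Bijective (TensorProduct.mk A B X 1) := by
  have h : ⇑(TensorProduct.mk A B X 1) =
      ⇑(H12.BC.bridgeA (B := B) X) ∘ ⇑((adjFG A B).unit.app X).hom := by
    funext x
    exact (bridgeA_unit X x).symm
  rw [h]
  exact (Function.Bijective.of_comp_iff' (H12.BC.bridgeA (B := B) X).bijective _).symm

lemma isIso_unit_iff (X : ModuleCat.{u} A) :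
    IsIso ((adjFG A B).unit.app X) ↔ Function.Bijective (TensorProduct.mk A B X 1) := by
  rw [ConcreteCategory.isIso_iff_bijective]
  exact unit_bijective_iff X

end

section

variable (f : A)

lemma subsingleton_extend_of_torsion (M : ModuleCat.{u} A)
    (hM : ∀ m : M, ∃ n : ℕ, f ^ n • m = 0) :
    Subsingleton ((F A (Localization.Away f)).obj M) := by
  have key : ∀ z : (Localization.Away f) ⊗[A] M, z = 0 := by
    intro z
    induction z using TensorProduct.induction_on with
    | zero => rfl
    | tmul b m =>
      obtain ⟨n, hn⟩ := hM m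
      have hu : IsUnit (algebraMap A (Localization.Away f) (f ^ n)) :=
        IsLocalization.map_units (Localization.Away f) (⟨f ^ n, n, rfl⟩ : Submonoid.powers f)
      obtain ⟨u, hu'⟩ := hu
      have : b = (f ^ n) • (b * ↑u⁻¹) := by
        rw [Algebra.smul_def, ← hu', mul_comm b, ← mul_assoc, Units.mul_inv, one_mul]
      rw [this, TensorProduct.smul_tmul, hn, TensorProduct.tmul_zero]
    | add x y hx hy => rw [hx, hy, add_zero]
  have : Subsingleton ((Localization.Away f) ⊗[A] M) :=
    ⟨fun a b => (key a).trans (key b).symm⟩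
  exact (H12.BC.bridgeA (B := Localization.Away f) M).toEquiv.subsingleton

lemma bijective_pow_smul (X : ModuleCat.{u} A)
    (hX : Function.Bijective (fun x : X => f • x)) (n : ℕ) :
    Function.Bijective (fun x : X => f ^ n • x) := by
  induction n with
  | zero =>
    have : (fun x : X => f ^ 0 • x) = id := by
      funext x
      simp
    rw [this]
    exact Function.bijective_id
  | succ n ih =>
    have : (fun x : X => f ^ (n + 1) • x) = (fun x : X => f ^ n • x) ∘ (fun x : X => f • x) := by
      funext x
      simp [pow_succ, mul_smul]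
    rw [this]
    exact ih.comp hX

lemma mk_bijective_of_bijective (X : ModuleCat.{u} A)
    (hX : Function.Bijective (fun x : X => f • x)) :
    Function.Bijective (TensorProduct.mk A (Localization.Away f) X 1) := by
  have hloc : IsLocalizedModule (Submonoid.powers f)
      (TensorProduct.mk A (Localization.Away f) X 1) :=
    (isLocalizedModule_iff_isBaseChange (Submonoid.powers f) (Localization.Away f) _).mpr
      (TensorProduct.isBaseChange A X (Localization.Away f))
  have hpow := bijective_pow_smul f X hX
  constructor
  · rw [← LinearMap.ker_eq_bot, LinearMap.ker_eq_bot']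
    intro x hx
    rw [IsLocalizedModule.eq_zero_iff (Submonoid.powers f)] at hx
    obtain ⟨⟨_, n, rfl⟩, hs⟩ := hx
    have hs' : f ^ n • x = 0 := hs
    exact (hpow n).1 (hs'.trans (smul_zero _).symm)
  · intro y
    obtain ⟨⟨x, ⟨_, n, rfl⟩⟩, hxy⟩ := IsLocalizedModule.surj (Submonoid.powers f)
      (TensorProduct.mk A (Localization.Away f) X 1) y
    have hxy' : f ^ n • y = (1 : Localization.Away f) ⊗ₜ[A] x := hxy
    obtain ⟨x', hx'⟩ := (hpow n).2 x
    refine ⟨x', ?_⟩
    have hu := IsLocalizedModule.map_units (TensorProduct.mk A (Localization.Away f) X 1)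
      (⟨f ^ n, n, rfl⟩ : Submonoid.powers f)
    have hinj : Function.Injective (fun z : (Localization.Away f) ⊗[A] X => f ^ n • z) :=
      ((Module.End.isUnit_iff _).1 hu).1
    apply hinj
    change f ^ n • ((1 : Localization.Away f) ⊗ₜ[A] x') = f ^ n • y
    rw [hxy', ← hx']
    simp only [TensorProduct.tmul_smul]

end

/-- vanishing of `Hom_{D(A)}(M, X[i])` -/
theorem subsingleton_hom_of_torsion_of_bijective (f : A) (M X : ModuleCat.{u} A)
    (hM : ∀ m : M, ∃ n : ℕ, f ^ n • m = 0)
    (hX : Function.Bijective (fun x : X => f • x)) (i : ℤ) :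
    Subsingleton ((DerivedCategory.singleFunctor (ModuleCat.{u} A) 0).obj M ⟶
      ((DerivedCategory.singleFunctor (ModuleCat.{u} A) 0).obj X)⟦i⟧) := by
  have : IsIso ((adjFG A (Localization.Away f)).unit.app X) :=
    (isIso_unit_iff X).mpr (mk_bijective_of_bijective f X hX)
  let e : X ≅ (G A (Localization.Away f)).obj ((F A (Localization.Away f)).obj X) :=
    asIso ((adjFG A (Localization.Away f)).unit.app X)
  have hz : IsZero ((F A (Localization.Away f)).obj M) := by
    have := subsingleton_extend_of_torsion f M hM
    exact ModuleCat.isZero_of_subsingleton _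
  have hz' : IsZero ((DerivedCategory.singleFunctor (ModuleCat.{u} (Localization.Away f)) 0).obj
      ((F A (Localization.Away f)).obj M)) :=
    Functor.map_isZero _ hz
  let E := (addHomCongr (Iso.refl ((DerivedCategory.singleFunctor (ModuleCat.{u} A) 0).obj M))
      ((shiftFunctor _ i).mapIso
        ((DerivedCategory.singleFunctor (ModuleCat.{u} A) 0).mapIso e))).trans
    (adjEquiv (B := Localization.Away f) M ((F A (Localization.Away f)).obj X) i).symm
  have hs : Subsingleton
      ((DerivedCategory.singleFunctor (ModuleCat.{u} (Localization.Away f)) 0).obj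
        ((F A (Localization.Away f)).obj M) ⟶
      ((DerivedCategory.singleFunctor (ModuleCat.{u} (Localization.Away f)) 0).obj
        ((F A (Localization.Away f)).obj X))⟦i⟧) :=
    ⟨fun a b => hz'.eq_of_src a b⟩
  exact E.toEquiv.subsingleton

end Groth.Agent.H9.ExtBC
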